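import Groth.Agent.Hensel.QuasiFiniteSplit
import Groth.Agent.Hensel.Local
import Groth.Agent.Proj16.UClosed
import Mathlib

/-!
# Splitting off isolated points of the closed fibre over a henselian local ring
-/

noncomputable section

universe u

open CategoryTheory CategoryTheory.Limits AlgebraicGeometry IsLocalRing

namespace Groth.Agent.Eg2Split

theorem henselianLocalRing_of_complete (A : Type u) [CommRing A] [IsLocalRing A]
    [IsAdicComplete (maximalIdeal A) A] : HenselianLocalRing A :=
  Hensel.henselianLocalRing_of_henselianRing A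

variable {A : Type u} [CommRing A] [HenselianLocalRing A] {X : Scheme.{u}}
  (f : X ⟶ Spec (CommRingCat.of A))

/-- The ring map to the sections over an open. -/
def coeffHom (V : X.Opens) : CommRingCat.of A ⟶ Γ(X, V) :=
  (Scheme.ΓSpecIso (CommRingCat.of A)).inv ≫ f.appLE ⊤ V (show V ≤ f ⁻¹ᵁ ⊤ from le_top)

omit [HenselianLocalRing A] in
lemma specMap_coeffHom {V : X.Opens} (hV : IsAffineOpen V) :
    Spec.map (coeffHom f V) = hV.fromSpec ≫ f := by
  rw [← IsAffineOpen.SpecMap_appLE_fromSpec f (isAffineOpen_top _) hV le_top, coeffHom,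
    Spec.map_comp, IsAffineOpen.fromSpec_top, Scheme.isoSpec_Spec_inv]

omit [HenselianLocalRing A] in
lemma coeffHom_res {V W : X.Opens} (h : W ≤ V) :
    coeffHom f V ≫ X.presheaf.map (homOfLE h).op = coeffHom f W := by
  rw [coeffHom, coeffHom, Category.assoc, Scheme.Hom.appLE_map]

omit [HenselianLocalRing A] in
lemma coeffHom_germ {V : X.Opens} (x : X) (hx : x ∈ V) :
    coeffHom f V ≫ X.presheaf.germ V x hx =
      (Scheme.ΓSpecIso (CommRingCat.of A)).inv ≫ f.appTop ≫ X.presheaf.germ ⊤ x trivial := by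
  rw [coeffHom, Category.assoc, Scheme.Hom.appLE, Category.assoc, TopCat.Presheaf.germ_res]
  rfl

/-- Data of a clopen neighbourhood, finite over the base, of a point of the closed fibre. -/
structure FinitePiece (x : X) (W : X.Opens) : Prop where
  mem : x ∈ W
  affine : IsAffineOpen W
  local' : IsLocalRing Γ(X, W)
  finite : (coeffHom f W).hom.Finite

theorem exists_finitePiece [LocallyOfFiniteType f] (x : X) (hx : f x = closedPoint A)
    (hq : f.QuasiFiniteAt x) : ∃ W : X.Opens, FinitePiece f x W := by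
  obtain ⟨_, ⟨V, hV, rfl⟩, hxV, -⟩ :=
    X.isBasis_affineOpens.exists_subset_of_mem_open (Set.mem_univ x) isOpen_univ
  have hV : IsAffineOpen V := hV
  let φ : CommRingCat.of A ⟶ Γ(X, V) := coeffHom f V
  algebraize [φ.hom]
  have hlft : φ.hom.FiniteType := by
    refine (HasRingHomProperty.Spec_iff (P := @LocallyOfFiniteType)).mp ?_
    rw [specMap_coeffHom f hV]
    infer_instance
  have : Algebra.FiniteType A Γ(X, V) := hlft
  let q := (hV.primeIdealOf ⟨x, hxV⟩).asIdeal
  have hover : q.LiesOver (maximalIdeal A) := by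
    refine ⟨?_⟩
    have h : Spec.map φ (hV.primeIdealOf ⟨x, hxV⟩) = closedPoint A := by
      rw [specMap_coeffHom f hV]
      show f (hV.fromSpec (hV.primeIdealOf ⟨x, hxV⟩)) = _
      rw [hV.fromSpec_primeIdealOf, hx]
    exact (congrArg PrimeSpectrum.asIdeal h).symm
  have hqf : Algebra.QuasiFiniteAt A q := by
    have h := hq.quasiFiniteAt hV (isAffineOpen_top _) le_top hxV
    rw [RingHom.QuasiFiniteAt] at h
    let ψ := (f.appLE ⊤ V le_top).hom
    let e : A ≃+* Γ(Spec (CommRingCat.of A), ⊤) :=
      (Scheme.ΓSpecIso (CommRingCat.of A)).symm.commRingCatIsoToRingEquiv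
    letI alg : Algebra Γ(Spec (CommRingCat.of A), ⊤) Γ(X, V) := ψ.toAlgebra
    have h' : (algebraMap Γ(Spec (CommRingCat.of A), ⊤) (Localization.AtPrime q)).QuasiFinite :=
      RingHom.quasiFinite_algebraMap.mpr h
    rw [Algebra.QuasiFiniteAt, ← RingHom.quasiFinite_algebraMap]
    exact h'.comp (RingHom.QuasiFinite.of_finite (RingHom.Finite.of_surjective _ e.surjective))
  obtain ⟨e, he, heq, hfin, hloc⟩ := Hensel.exists_idempotent_of_quasiFiniteAt A q
  refine ⟨X.basicOpen e, ?_, hV.basicOpen e, ?_, ?_⟩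
  · have hh := hV.fromSpec_primeIdealOf ⟨x, hxV⟩
    rw [show x = hV.fromSpec (hV.primeIdealOf ⟨x, hxV⟩) from hh.symm]
    show hV.primeIdealOf ⟨x, hxV⟩ ∈ hV.fromSpec ⁻¹ᵁ X.basicOpen e
    rw [hV.fromSpec_preimage_basicOpen]
    exact heq
  all_goals
    have := hV.isLocalization_basicOpen e
    have := IsLocalization.Away.quotient_of_isIdempotentElem he
    let θ := IsLocalization.algEquiv (Submonoid.powers e) (Γ(X, V) ⧸ Ideal.span {1 - e}) Γ(X, X.basicOpen e)
  · exact θ.toRingEquiv.isLocalRing
  · rw [← coeffHom_res f (X.basicOpen_le e)]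
    exact (RingHom.Finite.of_surjective θ.toRingHom θ.surjective).comp (RingHom.finite_algebraMap.mpr hfin) |>
      (fun h => by
        convert h using 1
        ext a
        exact (θ.commutes (φ.hom a)).symm)

variable {f}

lemma FinitePiece.isFinite {x : X} {W : X.Opens} (h : FinitePiece f x W) : IsFinite (W.ι ≫ f) := by
  have : IsFinite (h.affine.fromSpec ≫ f) := by
    rw [← specMap_coeffHom f h.affine, IsFinite.SpecMap_iff]
    exact h.finite
  rw [show W.ι ≫ f = h.affine.isoSpec.hom ≫ h.affine.fromSpec ≫ f by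
    rw [← h.affine.isoSpec_inv_ι, Category.assoc, Iso.hom_inv_id_assoc]]
  infer_instance

lemma FinitePiece.isClosed {x : X} {W : X.Opens} (h : FinitePiece f x W) [IsSeparated f] :
    IsClosed (W : Set X) := by
  have := h.isFinite
  have : IsProper W.ι := IsProper.of_comp W.ι f
  rw [← W.range_ι]
  exact W.ι.isClosedMap.isClosed_range

lemma FinitePiece.primeIdealOf_eq {x : X} {W : X.Opens} (h : FinitePiece f x W)
    (hx : f x = closedPoint A) :
    haveI := h.local'
    (h.affine.primeIdealOf ⟨x, h.mem⟩).asIdeal = maximalIdeal Γ(X, W) := by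
  haveI := h.local'
  have hint : (coeffHom f W).hom.IsIntegral := RingHom.IsIntegral.of_finite h.finite
  refine IsLocalRing.eq_maximalIdeal ?_
  refine Ideal.isMaximal_of_isIntegral_of_isMaximal_comap' _ hint _ ?_
  have h' : Spec.map (coeffHom f W) (h.affine.primeIdealOf ⟨x, h.mem⟩) = closedPoint A := by
    rw [specMap_coeffHom f h.affine]
    show f (h.affine.fromSpec (h.affine.primeIdealOf ⟨x, h.mem⟩)) = _
    rw [h.affine.fromSpec_primeIdealOf, hx]
  rw [show Ideal.comap (coeffHom f W).hom (h.affine.primeIdealOf ⟨x, h.mem⟩).asIdeal = maximalIdeal A from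
    congrArg PrimeSpectrum.asIdeal h']
  infer_instance

lemma FinitePiece.isIso_germ {x : X} {W : X.Opens} (h : FinitePiece f x W)
    (hx : f x = closedPoint A) : IsIso (X.presheaf.germ W x h.mem) := by
  haveI := h.local'
  let := TopCat.Presheaf.algebra_section_stalk X.presheaf (⟨x, h.mem⟩ : W)
  have hloc := h.affine.isLocalization_stalk ⟨x, h.mem⟩
  have hle : (h.affine.primeIdealOf ⟨x, h.mem⟩).asIdeal.primeCompl ≤ IsUnit.submonoid Γ(X, W) := by
    intro a ha
    have ha' : a ∉ maximalIdeal Γ(X, W) := h.primeIdealOf_eq hx ▸ ha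
    exact not_not.mp ha'
  let e := IsLocalization.atUnits Γ(X, W) _ hle (S := X.presheaf.stalk x)
  exact (ConcreteCategory.isIso_iff_bijective _).mpr (by convert e.bijective using 1; ext a; exact (e.commutes a).symm)

lemma FinitePiece.fromSpecStalk {x : X} {W : X.Opens} (h : FinitePiece f x W)
    (hx : f x = closedPoint A) [IsSeparated f] :
    IsOpenImmersion (X.fromSpecStalk x) ∧ IsClosedImmersion (X.fromSpecStalk x) ∧
      ((Scheme.ΓSpecIso (CommRingCat.of A)).inv ≫ f.appTop ≫ X.presheaf.germ ⊤ x trivial).hom.Finite := by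
  haveI := h.isIso_germ hx
  have ho : IsOpenImmersion (X.fromSpecStalk x) := by
    rw [← h.affine.fromSpecStalk_eq_fromSpecStalk h.mem, IsAffineOpen.fromSpecStalk]
    infer_instance
  refine ⟨ho, ?_, ?_⟩
  · refine .of_isPreimmersion _ ?_
    have hr : Set.range (X.fromSpecStalk x) = W := by
      rw [← h.affine.fromSpecStalk_eq_fromSpecStalk h.mem, IsAffineOpen.fromSpecStalk]
      rw [Scheme.Hom.comp_base, TopCat.coe_comp, Set.range_comp,
        Function.Surjective.range_eq, Set.image_univ, h.affine.range_fromSpec]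
      exact (Spec.map (X.presheaf.germ W x h.mem)).homeomorph.surjective
    rw [hr]
    exact h.isClosed
  · rw [← coeffHom_germ f x h.mem, CommRingCat.hom_comp]
    exact (RingHom.Finite.of_surjective _ (ConcreteCategory.bijective_of_isIso _).2).comp h.finite

theorem exists_finite_clopen [LocallyOfFiniteType f] [QuasiCompact f] [IsSeparated f]
    [LocallyQuasiFinite f] :
    ∃ U : X.Opens, IsClosed (U : Set X) ∧ IsFinite (U.ι ≫ f) ∧
      ∀ x : X, f x = closedPoint A → x ∈ U := by
  have : Finite (f ⁻¹' {closedPoint A}) := (f.finite_preimage_singleton _).to_subtype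
  choose W hW using fun x : f ⁻¹' {closedPoint A} =>
    exists_finitePiece f x.1 x.2 (f.quasiFiniteAt x.1)
  refine ⟨⨆ x, W x, ?_, ?_, fun x hx => TopologicalSpace.Opens.mem_iSup.mpr ⟨⟨x, hx⟩, (hW _).mem⟩⟩
  · rw [TopologicalSpace.Opens.coe_iSup]
    exact isClosed_iUnion_of_finite fun x => (hW x).isClosed
  let U := ⨆ x, W x
  have hle : ∀ x, W x ≤ U := fun x => le_iSup W x
  have : UniversallyClosed (U.ι ≫ f) := by
    refine Proj16.universallyClosed_of_finite_cover _ (fun x => X.homOfLE (hle x)) (fun x => ?_) ?_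
    · rw [Scheme.homOfLE_ι_assoc]
      have := (hW x).isFinite
      infer_instance
    · rintro ⟨y, hy⟩
      obtain ⟨x, hx⟩ := TopologicalSpace.Opens.mem_iSup.mp hy
      exact ⟨x, ⟨y, hx⟩, Subtype.ext (Scheme.homOfLE_apply _ _)⟩
  have : QuasiCompact (U.ι ≫ f) := inferInstance
  have : IsProper (U.ι ≫ f) := {}
  exact IsFinite.of_isProper_of_locallyQuasiFinite _

end Groth.Agent.Eg2Split
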